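import Mathlib.AlgebraicGeometry.Limits
import Mathlib.AlgebraicGeometry.Properties
import Mathlib.AlgebraicGeometry.SpreadingOut
import Mathlib.AlgebraicGeometry.Morphisms.QuasiSeparated
import Mathlib.AlgebraicGeometry.Morphisms.Separated

/-!
# Affine opens around generic points
-/

universe u

set_option autoImplicit false
set_option linter.style.haveILetI false
set_option backward.isDefEq.respectTransparency false

open AlgebraicGeometry CategoryTheory CategoryTheory.Limits TopologicalSpace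
open scoped Function

noncomputable section

namespace GrothLib.MorQ9

variable {X : Scheme.{u}}

theorem eq_of_specializes_generic {η y : X} (hη : closure ({η} : Set X) ∈ irreducibleComponents (X : Type u))
    (h : y ⤳ η) : y = η := by
  have h2 : closure ({η} : Set X) ⊆ closure {y} := specializes_iff_closure_subset.mp h
  have h3 := hη.2 isIrreducible_singleton.closure h2
  exact (h.antisymm (specializes_iff_closure_subset.mpr h3)).eq

/-- A quasi-compact open of a quasi-separated scheme not containing a generic point avoids a neighbourhood of it. -/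
theorem exists_nhd_disjoint [QuasiSeparatedSpace X] {U : X.Opens} (hU : IsCompact (U : Set X)) {η : X}
    (hη : closure ({η} : Set X) ∈ irreducibleComponents (X : Type u)) (hηU : η ∉ U) :
    ∃ O : X.Opens, η ∈ O ∧ Disjoint O U := by
  classical
  obtain ⟨V, hV, hηV, -⟩ := exists_isAffineOpen_mem_and_subset (Opens.mem_top η)
  have hUV : IsCompact ((U ⊓ V : X.Opens) : Set X) :=
    QuasiSeparatedSpace.inter_isCompact _ _ U.2 hU V.2 hV.isCompact
  have hex : ∀ y : ↥(U ⊓ V), ∃ g : Γ(X, V), X.basicOpen g ≤ U ⊓ V ∧ y.1 ∈ X.basicOpen g := fun y =>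
    hV.exists_basicOpen_le y y.2.2
  choose g hg hyg using hex
  obtain ⟨s, hs⟩ := hUV.elim_finite_subcover (fun y => (X.basicOpen (g y) : Set X)) (fun y => (X.basicOpen (g y)).2)
    (fun y hy => Set.mem_iUnion.mpr ⟨⟨y, hy⟩, hyg _⟩)
  have hO : ∀ y : ↥(U ⊓ V), ∃ O : X.Opens, η ∈ O ∧ Disjoint O (X.basicOpen (g y)) := by
    intro y
    have hnot : η ∉ X.basicOpen (g y) := fun h => hηU (hg y h).1
    have hnil : IsNilpotent (X.presheaf.germ V η hηV (g y)) := by
      rw [nilpotent_iff_mem_prime]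
      intro p hp
      let z : Spec (X.presheaf.stalk η) := ⟨p, hp⟩
      let c : Spec (X.presheaf.stalk η) := IsLocalRing.closedPoint _
      have hz : X.fromSpecStalk η z = η := by
        refine eq_of_specializes_generic hη ?_
        have : X.fromSpecStalk η z ∈ Set.range (X.fromSpecStalk η) := ⟨z, rfl⟩
        rwa [Scheme.range_fromSpecStalk] at this
      have hzc : z = c := (X.fromSpecStalk η).isEmbedding.injective
        (hz.trans (Scheme.fromSpecStalk_closedPoint (X := X) (x := η)).symm)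
      have hm : X.presheaf.germ V η hηV (g y) ∈ IsLocalRing.maximalIdeal _ := by
        rw [IsLocalRing.mem_maximalIdeal, mem_nonunits_iff]
        exact fun hu => hnot ((Scheme.mem_basicOpen _ _ _ _).mpr hu)
      have h4 : p = IsLocalRing.maximalIdeal _ := congrArg PrimeSpectrum.asIdeal hzc
      rw [h4]
      exact hm
    obtain ⟨n, hn⟩ := hnil
    rw [← map_pow, ← map_zero (X.presheaf.germ V η hηV).hom] at hn
    obtain ⟨O, hηO, i₁, i₂, he⟩ := X.presheaf.germ_eq η hηV hηV _ _ hn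
    refine ⟨O, hηO, Opens.ext ?_ |> disjoint_iff.mpr⟩
    refine Set.eq_empty_of_forall_notMem fun z hz => ?_
    have h1 : z ∈ X.basicOpen (X.presheaf.map i₁.op (g y)) := by
      rw [Scheme.basicOpen_res]; exact hz
    have h2 : IsNilpotent (X.presheaf.map i₁.op (g y)) := by
      refine ⟨n, ?_⟩
      rw [← map_pow, he, map_zero]
    rw [Scheme.mem_basicOpen _ _ z hz.1] at h1
    exact (h2.map (X.presheaf.germ O z hz.1).hom).not_isUnit h1
  choose O hηO hOd using hO
  refine ⟨V ⊓ s.inf O, ⟨hηV, ?_⟩, Opens.ext ?_ |> disjoint_iff.mpr⟩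
  · have : ∀ t : Finset ↥(U ⊓ V), η ∈ t.inf O := fun t => by
      induction t using Finset.induction_on with
      | empty => trivial
      | insert a t ha ih => rw [Finset.inf_insert]; exact ⟨hηO a, ih⟩
    exact this s
  · refine Set.eq_empty_of_forall_notMem fun z hz => ?_
    obtain ⟨y, hy, hzy⟩ := Set.mem_iUnion₂.mp (hs (show z ∈ ((U ⊓ V : X.Opens) : Set X) from ⟨hz.2, hz.1.1⟩))
    have : z ∈ (O y ⊓ X.basicOpen (g y) : X.Opens) :=
      ⟨(show s.inf O ≤ O y from Finset.inf_le hy) hz.1.2, hzy⟩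
    rw [disjoint_iff.mp (hOd y)] at this
    exact this

/-- Pairwise disjoint affine neighbourhoods of finitely many generic points, inside given opens. -/
theorem exists_disjoint_affine_nhds [QuasiSeparatedSpace X] {ι : Type*} [Finite ι] (η : ι → X)
    (hη : ∀ i, closure ({η i} : Set X) ∈ irreducibleComponents (X : Type u)) (hinj : Function.Injective η)
    (O : ι → X.Opens) (hO : ∀ i, η i ∈ O i) :
    ∃ U : ι → X.Opens, (∀ i, IsAffineOpen (U i) ∧ η i ∈ U i ∧ U i ≤ O i) ∧ Pairwise (Disjoint on U) := by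
  classical
  haveI := Fintype.ofFinite ι
  have h0 : ∀ i, ∃ U : X.Opens, IsAffineOpen U ∧ η i ∈ U ∧ U ≤ O i ∧ ∀ j, j ≠ i → η j ∉ U := fun i => by
    let C : Set X := ⋃ j ∈ {j | j ≠ i}, closure {η j}
    have hC : IsClosed C := (Set.toFinite _).isClosed_biUnion fun j _ => isClosed_closure
    have hi : η i ∉ C := fun hmem => by
      obtain ⟨j, hj, hm⟩ := Set.mem_iUnion₂.mp hmem
      exact hj (hinj (eq_of_specializes_generic (hη i) (specializes_iff_mem_closure.mpr hm)))
    obtain ⟨U, hU, hiU, hUO⟩ := exists_isAffineOpen_mem_and_subset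
      (show η i ∈ O i ⊓ ⟨Cᶜ, hC.isOpen_compl⟩ from ⟨hO i, hi⟩)
    exact ⟨U, hU, hiU, hUO.trans inf_le_left, fun j hj hjU => (hUO hjU).2
      (Set.mem_iUnion₂.mpr ⟨j, hj, subset_closure rfl⟩)⟩
  choose U hU hiU hUO hUne using h0
  have h1 : ∀ i j : ι, ∃ P : X.Opens, η i ∈ P ∧ (j ≠ i → Disjoint P (U j)) := fun i j => by
    by_cases h : j = i
    · exact ⟨⊤, trivial, fun h' => absurd h h'⟩
    · obtain ⟨P, hP, hd⟩ := exists_nhd_disjoint (hU j).isCompact (hη i) (hUne j i (Ne.symm h))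
      exact ⟨P, hP, fun _ => hd⟩
  choose P hP hPd using h1
  have h2 : ∀ i, ∃ W : X.Opens, IsAffineOpen W ∧ η i ∈ W ∧ W ≤ U i ∧ ∀ j, W ≤ P i j := fun i => by
    have hmem : ∀ t : Finset ι, η i ∈ t.inf (P i) := fun t => by
      induction t using Finset.induction_on with
      | empty => trivial
      | insert a t ha ih => rw [Finset.inf_insert]; exact ⟨hP i a, ih⟩
    obtain ⟨W, hW, hiW, hle⟩ := exists_isAffineOpen_mem_and_subset
      (show η i ∈ U i ⊓ Finset.univ.inf (P i) from ⟨hiU i, hmem _⟩)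
    exact ⟨W, hW, hiW, hle.trans inf_le_left,
      fun j => le_trans (le_trans hle inf_le_right) (Finset.inf_le (Finset.mem_univ j))⟩
  choose W hW hiW hWU hWP using h2
  exact ⟨W, fun i => ⟨hW i, hiW i, (hWU i).trans (hUO i)⟩,
    fun i j hij => (hPd i j (Ne.symm hij)).mono (hWP i j) (hWU j)⟩

/-- A point and finitely many generic points lie in a common affine open. -/
theorem exists_affine_point_generic [QuasiSeparatedSpace X] (S : Set X) (hS : S.Finite)
    (hη : ∀ η ∈ S, closure ({η} : Set X) ∈ irreducibleComponents (X : Type u)) (x : X) :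
    ∃ U : X.Opens, IsAffineOpen U ∧ x ∈ U ∧ S ⊆ U := by
  obtain ⟨U, hU, hxU, -⟩ := exists_isAffineOpen_mem_and_subset (Opens.mem_top x)
  let S' : Set X := S \ U
  haveI : Finite S' := (hS.subset Set.sdiff_subset).to_subtype
  choose O hO hOd using fun i : S' => exists_nhd_disjoint hU.isCompact (hη i.1 i.2.1) i.2.2
  obtain ⟨W, hW, hd⟩ := exists_disjoint_affine_nhds (fun i : S' => i.1) (fun i => hη i.1 i.2.1)
    Subtype.val_injective O hO
  have hdis : Disjoint U (⨆ i, W i) := by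
    rw [disjoint_iff, inf_iSup_eq, eq_bot_iff]
    refine iSup_le fun i => ?_
    exact (inf_le_inf_left U (hW i).2.2).trans (disjoint_iff.mp (hOd i).symm).le
  refine ⟨U ⊔ ⨆ i, W i, hU.sup_of_disjoint (IsAffineOpen.iSup_of_disjoint (fun i => (hW i).1) hd) hdis,
    Or.inl hxU, fun η hη' => ?_⟩
  by_cases h : η ∈ U
  · exact Or.inl h
  · exact Or.inr (Opens.mem_iSup.mpr ⟨⟨η, hη', h⟩, (hW ⟨η, hη', h⟩).2.1⟩)

/-- A quasi-compact scheme has a dense separated open. -/
theorem exists_dense_separated [CompactSpace X] :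
    ∃ V : X.Opens, Dense (V : Set X) ∧ (V : Scheme.{u}).IsSeparated := by
  classical
  choose A hA hxA _ using fun x : X => exists_isAffineOpen_mem_and_subset (Opens.mem_top x)
  obtain ⟨s, hs⟩ := isCompact_univ.elim_finite_subcover (fun x => (A x : Set X)) (fun x => (A x).2)
    (fun x _ => Set.mem_iUnion.mpr ⟨x, hxA x⟩)
  let n := s.card
  let e : Fin n ≃ s := s.equivFin.symm
  let U : Fin n → X.Opens := fun k => A (e k).1
  have hcov : ∀ z : X, ∃ k, z ∈ U k := fun z => by
    obtain ⟨y, hy, hzy⟩ := Set.mem_iUnion₂.mp (hs (Set.mem_univ z))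
    exact ⟨e.symm ⟨y, hy⟩, by show z ∈ A (e _).1; rw [Equiv.apply_symm_apply]; exact hzy⟩
  let V : Fin n → X.Opens := fun k =>
    U k ⊓ ⟨(closure (⋃ l ∈ {l | l < k}, (U l : Set X)))ᶜ, isClosed_closure.isOpen_compl⟩
  have hlt : ∀ k l, l < k → Disjoint (V k) (V l) := fun k l h =>
    disjoint_iff.mpr (eq_bot_iff.mpr fun z hz => hz.1.2 (subset_closure (Set.mem_iUnion₂.mpr ⟨l, h, hz.2.1⟩)))
  have hd : Pairwise (Disjoint on V) := fun k l h => by
    rcases lt_or_gt_of_ne h with h' | h'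
    · exact (hlt l k h').symm
    · exact hlt k l h'
  have hdense : Dense ((⨆ k, V k : X.Opens) : Set X) := by
    rw [dense_iff_inter_open]
    intro O hO hne
    obtain ⟨z, hz⟩ := hne
    obtain ⟨k, hk⟩ := hcov z
    have hex : ∃ m : ℕ, ∃ k : Fin n, k.1 = m ∧ (O ∩ (U k : Set X)).Nonempty := ⟨k.1, k, rfl, z, hz, hk⟩
    obtain ⟨k₀, hk₀, w, hwO, hwU⟩ := Nat.find_spec hex
    refine ⟨w, hwO, Opens.mem_iSup.mpr ⟨k₀, hwU, fun hcl => ?_⟩⟩
    obtain ⟨v, ⟨hvO, hvU⟩, hv⟩ := mem_closure_iff.mp hcl _ (hO.inter (U k₀).2) ⟨hwO, hwU⟩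
    obtain ⟨l, hl, hvl⟩ := Set.mem_iUnion₂.mp hv
    exact Nat.find_min hex (show l.1 < Nat.find hex from hk₀ ▸ hl) ⟨l, rfl, v, hvO, hvl⟩
  let J : Type u := ULift.{u} (Fin n)
  let d : (∐ fun j : J => (V j.down : Scheme.{u})) ⟶ X := Sigma.desc fun j => (V j.down).ι
  haveI : IsOpenImmersion d := isOpenImmersion_sigmaDesc _ (fun j : J => (V j.down).ι) fun i j h => by
    have := hd (fun e => h (ULift.ext _ _ e))
    simpa [← Opens.coe_disjoint] using this
  refine ⟨d.opensRange, hdense.mono ?_, ?_⟩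
  · intro z hz
    obtain ⟨k, hk⟩ := Opens.mem_iSup.mp hz
    refine ⟨Sigma.ι (fun j : J => (V j.down : Scheme.{u})) ⟨k⟩ ⟨z, hk⟩, ?_⟩
    show (Sigma.ι (fun j : J => (V j.down : Scheme.{u})) ⟨k⟩ ≫ d) ⟨z, hk⟩ = z
    rw [Sigma.ι_desc]
    rfl
  let m : (∐ fun j : J => (V j.down : Scheme.{u})) ⟶ ∐ fun j : J => (U j.down : Scheme.{u}) :=
    Sigma.desc fun j => X.homOfLE inf_le_left ≫ Sigma.ι (fun j : J => (U j.down : Scheme.{u})) j
  haveI : IsOpenImmersion m := isOpenImmersion_sigmaDesc _ _ fun i j h => by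
    show Disjoint (Set.range _) (Set.range _)
    rw [Set.disjoint_left]
    rintro _ ⟨a, rfl⟩ ⟨b, hb⟩
    exact h (congrArg Sigma.fst ((sigmaι_eq_iff (fun j : J => (U j.down : Scheme.{u})) j i
      (X.homOfLE inf_le_left b) (X.homOfLE inf_le_left a)).mp hb)).symm
  haveI : ∀ j : J, IsAffine (U j.down : Scheme.{u}) := fun j => hA _
  constructor
  have : terminal.from (d.opensRange : Scheme.{u}) = d.isoOpensRange.inv ≫ m ≫ terminal.from _ :=
    terminal.hom_ext _ _
  rw [this]
  infer_instance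

/-- Reduced with finitely many components: germs are injective near every point. -/
theorem isGermInjectiveAt [IsReduced X] (hirr : (irreducibleComponents (X : Type u)).Finite) (x : X) :
    X.IsGermInjectiveAt x := by
  let C : Set X := ⋃ Z ∈ {Z ∈ irreducibleComponents (X : Type u) | x ∉ Z}, Z
  have hC : IsClosed C := (hirr.subset fun Z h => h.1).isClosed_biUnion fun Z h =>
    isClosed_of_mem_irreducibleComponents Z h.1
  have hx : x ∉ C := fun h => by
    obtain ⟨Z, hZ, hxZ⟩ := Set.mem_iUnion₂.mp h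
    exact hZ.2 hxZ
  obtain ⟨U, hU, hxU, hUC⟩ := exists_isAffineOpen_mem_and_subset
    (show x ∈ (⟨Cᶜ, hC.isOpen_compl⟩ : X.Opens) from hx)
  refine ⟨⟨U, hxU, hU, (injective_iff_map_eq_zero (X.presheaf.germ U x hxU).hom).mpr fun s hs => ?_⟩⟩
  rw [← map_zero (X.presheaf.germ U x hxU).hom] at hs
  obtain ⟨W, hxW, i₁, i₂, he⟩ := X.presheaf.germ_eq x hxU hxU _ _ hs
  rw [map_zero] at he
  rw [← basicOpen_eq_bot_iff]
  by_contra hne
  obtain ⟨z, hz⟩ := (Opens.ne_bot_iff_nonempty _).mp hne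
  let Z : Set X := irreducibleComponent z
  have hzZ : z ∈ Z := mem_irreducibleComponent
  have hxZ : x ∈ Z := by
    by_contra hxn
    exact hUC (X.basicOpen_le s hz) (Set.mem_iUnion₂.mpr ⟨Z, ⟨irreducibleComponent_mem_irreducibleComponents z, hxn⟩, hzZ⟩)
  obtain ⟨w, -, hwW, hws⟩ := (isIrreducible_irreducibleComponent (x := z)).2 _ _ W.2 (X.basicOpen s).2
    ⟨x, hxZ, hxW⟩ ⟨z, hzZ, hz⟩
  have : w ∈ X.basicOpen (X.presheaf.map i₁.op s) := by rw [Scheme.basicOpen_res]; exact ⟨hwW, hws⟩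
  rw [he, Scheme.basicOpen_zero] at this
  exact this

end GrothLib.MorQ9
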