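import Groth.Agent.Lib.NormalExt.Basic
import Mathlib.AlgebraicGeometry.FunctionField
import Mathlib.AlgebraicGeometry.Morphisms.Separated

/-!
# Stalks and sections inside the function field
-/

universe u

set_option autoImplicit false
set_option linter.style.haveILetI false
set_option backward.isDefEq.respectTransparency false

open AlgebraicGeometry CategoryTheory CategoryTheory.Limits TopologicalSpace Opposite

noncomputable section

namespace GrothLib.MorQ9

variable {X : Scheme.{u}} [IsIntegral X]

theorem injective_stalkSpecializes_generic (x : X) :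
    Function.Injective (X.presheaf.stalkSpecializes (genericPoint_specializes x)) :=
  IsFractionRing.injective (X.presheaf.stalk x) X.functionField

/-- On a separated integral scheme an inclusion of local rings is a specialisation. -/
theorem specializes_of_stalk_le [X.IsSeparated] (x y : X)
    (h : Set.range (X.presheaf.stalkSpecializes (genericPoint_specializes x)) ⊆
      Set.range (X.presheaf.stalkSpecializes (genericPoint_specializes y))) : y ⤳ x := by
  let ιx := (X.presheaf.stalkSpecializes (genericPoint_specializes x)).hom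
  let ιy := (X.presheaf.stalkSpecializes (genericPoint_specializes y)).hom
  let ψ : X.presheaf.stalk x →+* X.presheaf.stalk y :=
    (RingEquiv.ofBijective ιy.rangeRestrict
      ⟨fun a b hab => injective_stalkSpecializes_generic y (congrArg Subtype.val hab),
        ιy.rangeRestrict_surjective⟩).symm.toRingHom.comp (ιx.codRestrict ιy.range fun a => h ⟨a, rfl⟩)
  have hψ : CommRingCat.ofHom ψ ≫ X.presheaf.stalkSpecializes (genericPoint_specializes y) =
      X.presheaf.stalkSpecializes (genericPoint_specializes x) := by
    ext a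
    let e := RingEquiv.ofBijective ιy.rangeRestrict
      ⟨fun a b hab => injective_stalkSpecializes_generic y (congrArg Subtype.val hab), ιy.rangeRestrict_surjective⟩
    exact congrArg Subtype.val (e.apply_symm_apply (ιx.codRestrict ιy.range (fun a => h ⟨a, rfl⟩) a))
  haveI : IsDominant (Spec.map (X.presheaf.stalkSpecializes (genericPoint_specializes y))) := by
    rw [isDominant_iff]
    exact (PrimeSpectrum.denseRange_comap_iff_ker_le_nilRadical _).mpr
      (((RingHom.injective_iff_ker_eq_bot _).mp (injective_stalkSpecializes_generic y)).le.trans bot_le)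
  haveI : IsReduced (Spec (X.presheaf.stalk y)) := inferInstance
  have key : Spec.map (CommRingCat.ofHom ψ) ≫ X.fromSpecStalk x = X.fromSpecStalk y := by
    refine ext_of_isDominant (Spec.map (X.presheaf.stalkSpecializes (genericPoint_specializes y))) ?_
    rw [← Category.assoc, ← Spec.map_comp, hψ]
    exact (Scheme.SpecMap_stalkSpecializes_fromSpecStalk _).trans (Scheme.SpecMap_stalkSpecializes_fromSpecStalk _).symm
  have : y ∈ Set.range (X.fromSpecStalk x) := by
    refine ⟨Spec.map (CommRingCat.ofHom ψ) (IsLocalRing.closedPoint _), ?_⟩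
    have h1 := congrArg (fun m : _ ⟶ X => m (IsLocalRing.closedPoint (X.presheaf.stalk y))) key
    exact h1.trans Scheme.fromSpecStalk_closedPoint
  rwa [Scheme.range_fromSpecStalk] at this

/-- Global functions on a normal integral scheme form an integrally closed domain. -/
theorem isIntegrallyClosed_top (hX : ∀ x : X, IsIntegrallyClosed (X.presheaf.stalk x)) :
    IsIntegrallyClosed Γ(X, ⊤) := by
  haveI : Nonempty (⊤ : X.Opens) := ⟨⟨genericPoint X, trivial⟩⟩
  let g : Γ(X, ⊤) →+* X.functionField := (X.germToFunctionField ⊤).hom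
  have hg : Function.Injective g := X.germToFunctionField_injective ⊤
  let lift : FractionRing Γ(X, ⊤) →+* X.functionField := IsFractionRing.lift hg
  refine (isIntegrallyClosed_iff (FractionRing Γ(X, ⊤))).mpr fun {c} hc => ?_
  let k : X.functionField := lift c
  have hk : ∀ (U : X.affineOpens) [Nonempty U.1], ∃ d : Γ(X, U.1), X.germToFunctionField U.1 d = k := by
    intro U _
    haveI := NormalExt.isIntegrallyClosed_Γ hX U.1 U.2
    haveI := functionField_isFractionRing_of_isAffineOpen X U.1 U.2
    have hint : IsIntegral Γ(X, U.1) k := by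
      obtain ⟨P, hP, hPc⟩ := hc
      refine ⟨P.map (X.presheaf.map (homOfLE (le_top : U.1 ≤ ⊤)).op).hom, hP.map _, ?_⟩
      rw [Polynomial.eval₂_map]
      have h1 : (algebraMap Γ(X, U.1) X.functionField).comp (X.presheaf.map (homOfLE (le_top : U.1 ≤ ⊤)).op).hom =
          lift.comp (algebraMap Γ(X, ⊤) (FractionRing Γ(X, ⊤))) := by
        ext a
        exact (X.presheaf.germ_res_apply _ _ _ a).trans (IsFractionRing.lift_algebraMap hg a).symm
      rw [h1, ← Polynomial.hom_eval₂, hPc, map_zero]
    obtain ⟨d, hd⟩ := (isIntegrallyClosed_iff X.functionField).mp inferInstance hint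
    exact ⟨d, hd⟩
  let J := {U : X.affineOpens // Nonempty U.1}
  choose d hd using fun U : J => @hk U.1 U.2
  have hcompat : TopCat.Presheaf.IsCompatible X.sheaf.1 (fun U : J => (U.1.1 : Opens X)) d := by
    intro U V
    by_cases hne : Nonempty ↥(U.1.1 ⊓ V.1.1 : X.Opens)
    · haveI := U.2
      haveI := V.2
      refine @Scheme.germToFunctionField_injective X _ (U.1.1 ⊓ V.1.1) hne _ _ ?_
      exact ((X.presheaf.germ_res_apply _ _ _ _).trans (hd U)).trans
        ((X.presheaf.germ_res_apply _ _ _ _).trans (hd V)).symm
    · have : (U.1.1 ⊓ V.1.1 : X.Opens) = ⊥ := by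
        rw [not_nonempty_iff] at hne
        exact Opens.ext (Set.eq_empty_of_forall_notMem fun z hz => hne.elim ⟨z, hz⟩)
      have hs : Subsingleton Γ(X, U.1.1 ⊓ V.1.1) := by rw [this]; infer_instance
      exact @Subsingleton.elim _ hs _ _
  obtain ⟨s, hs, -⟩ := X.sheaf.existsUnique_gluing' (fun U : J => (U.1.1 : Opens X)) ⊤
    (fun U => homOfLE le_top) (fun z _ => by
      obtain ⟨U, hU, hzU, -⟩ := exists_isAffineOpen_mem_and_subset (Opens.mem_top z)
      exact Opens.mem_iSup.mpr ⟨⟨⟨U, hU⟩, ⟨⟨z, hzU⟩⟩⟩, hzU⟩) d hcompat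
  obtain ⟨U, hU, hzU, -⟩ := exists_isAffineOpen_mem_and_subset (Opens.mem_top (genericPoint X))
  haveI : Nonempty U := ⟨⟨_, hzU⟩⟩
  refine ⟨s, lift.injective ?_⟩
  rw [IsFractionRing.lift_algebraMap]
  refine Eq.trans ?_ (hd ⟨⟨U, hU⟩, inferInstance⟩)
  rw [← hs ⟨⟨U, hU⟩, inferInstance⟩]
  exact (X.presheaf.germ_res_apply _ _ _ _).symm

end GrothLib.MorQ9
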