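import Groth.Agent.Lib.GrpdQuot.FiniteAffine
import Mathlib.AlgebraicGeometry.ProjectiveSpectrum.Basic
import Mathlib.AlgebraicGeometry.QuasiAffine

/-!
# Finite sets in affine opens of subschemes of affine and projective spectra
-/

universe u

set_option autoImplicit false
set_option linter.style.haveILetI false
set_option backward.isDefEq.respectTransparency false

open AlgebraicGeometry CategoryTheory CategoryTheory.Limits TopologicalSpace

noncomputable section

namespace GrothLib.MorQ9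

theorem exists_affine_of_finite_affine {X Y : Scheme.{u}} [IsAffine Y] (ι : X ⟶ Y) [IsImmersion ι]
    (E : Set X) (hE : E.Finite) : ∃ U : X.Opens, IsAffineOpen U ∧ E ⊆ U := by
  choose A hA hxA _ using fun x : X => exists_isAffineOpen_mem_and_subset (Opens.mem_top x)
  let W : X.Opens := ⟨⋃ x ∈ E, (A x : Set X), isOpen_biUnion fun x _ => (A x).2⟩
  haveI : CompactSpace (W : Scheme.{u}) :=
    isCompact_iff_compactSpace.mp (hE.isCompact_biUnion fun x _ => (hA x).isCompact)
  haveI : (W : Scheme.{u}).IsQuasiAffine := .of_isImmersion (W.ι ≫ ι)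
  obtain ⟨V, hV, hEV⟩ := GrpdQuot.exists_affineOpen_of_finite_of_quasiAffine (W.ι ⁻¹' E)
    (hE.preimage W.ι.isOpenEmbedding.injective.injOn)
  exact ⟨W.ι ''ᵁ V, hV.image_of_isOpenImmersion W.ι,
    fun e he => ⟨⟨e, Set.mem_biUnion he (hxA e)⟩, hEV he, rfl⟩⟩

variable {A σ : Type u} [CommRing A] [SetLike σ A] [AddSubgroupClass σ A] (𝒜 : ℕ → σ) [GradedRing 𝒜]

theorem exists_homogeneous_notMem {p : Ideal A} (hp : p.IsHomogeneous 𝒜) {q : Ideal A} (h : ¬ p ≤ q) :
    ∃ (i : ℕ) (a : A), a ∈ 𝒜 i ∧ a ∈ p ∧ a ∉ q := by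
  classical
  obtain ⟨a, ha, haq⟩ := SetLike.not_le_iff_exists.mp h
  by_contra hne
  push Not at hne
  refine haq ?_
  rw [← DirectSum.sum_support_decompose 𝒜 a]
  exact q.sum_mem fun i _ => hne i _ (SetLike.coe_mem _) (hp i ha)

/-- Homogeneous prime avoidance on the projective spectrum. -/
theorem exists_basicOpen_of_finite (S : Finset (ProjectiveSpectrum 𝒜)) :
    ∃ (d : ℕ) (f : A), 0 < d ∧ f ∈ 𝒜 d ∧ ∀ p ∈ S, f ∉ p.asHomogeneousIdeal.toIdeal := by
  classical
  induction S using Finset.strongInduction with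
  | _ S ih =>
    rcases S.eq_empty_or_nonempty with rfl | hne
    · exact ⟨1, 0, one_pos, zero_mem _, fun p hp => absurd hp (Finset.notMem_empty p)⟩
    obtain ⟨q, hqmin⟩ := S.exists_minimal hne
    have hqS : q ∈ S := hqmin.prop
    obtain ⟨d, f, hd, hf, hfS⟩ := ih (S.erase q) (Finset.erase_ssubset hqS)
    by_cases hfq : f ∈ q.asHomogeneousIdeal.toIdeal
    swap
    · refine ⟨d, f, hd, hf, fun p hp => ?_⟩
      by_cases h : p = q
      · exact h ▸ hfq
      · exact hfS p (Finset.mem_erase.mpr ⟨h, hp⟩)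
    have hg : ∀ T : Finset (ProjectiveSpectrum 𝒜), T ⊆ S.erase q → ∃ (e : ℕ) (g : A), 0 < e ∧ g ∈ 𝒜 e ∧
        g ∉ q.asHomogeneousIdeal.toIdeal ∧ ∀ p ∈ T, g ∈ p.asHomogeneousIdeal.toIdeal := by
      intro T
      induction T using Finset.induction_on with
      | empty =>
        intro _
        obtain ⟨i, a, ha, hai, haq⟩ := exists_homogeneous_notMem 𝒜
          (HomogeneousIdeal.irrelevant 𝒜).isHomogeneous q.not_irrelevant_le
        refine ⟨i, a, Nat.pos_of_ne_zero fun h0 => haq ?_, ha, haq, fun p hp => absurd hp (Finset.notMem_empty p)⟩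
        subst h0
        have h : a = (DirectSum.decompose 𝒜 a 0 : A) := (DirectSum.decompose_of_mem_same 𝒜 ha).symm
        rw [h, show (DirectSum.decompose 𝒜 a 0 : A) = 0 from hai]
        exact zero_mem _
      | insert p T hpT ihT =>
        intro hsub
        obtain ⟨e, g, he, hg, hgq, hgT⟩ := ihT fun x hx => hsub (Finset.mem_insert_of_mem hx)
        have hp := hsub (Finset.mem_insert_self p T)
        have hnle : ¬ p.asHomogeneousIdeal.toIdeal ≤ q.asHomogeneousIdeal.toIdeal := fun hle => by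
          have hle' : p ≤ q := hle
          exact (Finset.mem_erase.mp hp).1 (le_antisymm hle' (hqmin.le_of_le (Finset.mem_erase.mp hp).2 hle'))
        obtain ⟨i, a, hai, hap, haq⟩ := exists_homogeneous_notMem 𝒜 p.asHomogeneousIdeal.isHomogeneous hnle
        refine ⟨e + i, g * a, by omega, SetLike.mul_mem_graded hg hai,
          fun h => (q.isPrime.mem_or_mem h).elim hgq haq, fun x hx => ?_⟩
        rcases Finset.mem_insert.mp hx with rfl | hx
        · exact Ideal.mul_mem_left _ g hap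
        · exact Ideal.mul_mem_right a _ (hgT x hx)
    obtain ⟨e, g, he, hg', hgq, hgS⟩ := hg _ le_rfl
    refine ⟨d * e, f ^ e + g ^ d, Nat.mul_pos hd he, ?_, fun p hp => ?_⟩
    · refine add_mem ?_ ?_
      · rw [mul_comm d e]; exact SetLike.pow_mem_graded e hf
      · exact SetLike.pow_mem_graded d hg'
    · by_cases h : p = q
      · rw [h]
        intro hm
        exact hgq (q.isPrime.mem_of_pow_mem d
          ((Ideal.add_mem_iff_right _ (Ideal.pow_mem_of_mem _ hfq e he)).mp hm))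
      · intro hm
        exact hfS p (Finset.mem_erase.mpr ⟨h, hp⟩) (p.isPrime.mem_of_pow_mem e
          ((Ideal.add_mem_iff_left _ (Ideal.pow_mem_of_mem _ (hgS p (Finset.mem_erase.mpr ⟨h, hp⟩)) d hd)).mp hm))

theorem exists_affine_of_finite_proj {X : Scheme.{u}} (ι : X ⟶ Proj 𝒜) [IsImmersion ι]
    (E : Set X) (hE : E.Finite) : ∃ U : X.Opens, IsAffineOpen U ∧ E ⊆ U := by
  classical
  obtain ⟨d, f, hd, hf, hS⟩ := exists_basicOpen_of_finite 𝒜 (hE.image ι).toFinset
  let D : (Proj 𝒜).Opens := Proj.basicOpen 𝒜 f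
  haveI : IsAffine (D : Scheme.{u}) := Proj.isAffineOpen_basicOpen 𝒜 f hf hd
  have hEW : E ⊆ (ι ⁻¹ᵁ D : X.Opens) := fun x hx =>
    (Proj.mem_basicOpen 𝒜 f (ι x)).mpr (hS _ ((hE.image ι).mem_toFinset.mpr ⟨x, hx, rfl⟩))
  obtain ⟨V, hV, hEV⟩ := exists_affine_of_finite_affine (ι ∣_ D) ((ι ⁻¹ᵁ D).ι ⁻¹' E)
    (hE.preimage (ι ⁻¹ᵁ D).ι.isOpenEmbedding.injective.injOn)
  exact ⟨(ι ⁻¹ᵁ D).ι ''ᵁ V, hV.image_of_isOpenImmersion _, fun e he => ⟨⟨e, hEW he⟩, hEV he, rfl⟩⟩

end GrothLib.MorQ9
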