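import Mathlib.AlgebraicGeometry.Morphisms.Proper
import Mathlib.AlgebraicGeometry.ValuativeCriterion
import Mathlib.AlgebraicGeometry.ResidueField
import Mathlib.AlgebraicGeometry.Properties

/-!
# Small facts about morphisms
-/

universe u

set_option autoImplicit false
set_option linter.style.haveILetI false
set_option backward.isDefEq.respectTransparency false

open AlgebraicGeometry CategoryTheory CategoryTheory.Limits TopologicalSpace

noncomputable section

namespace GrothLib.MorQ9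

theorem exists_sq_cube_mem {B : Type u} [CommRing B] (A : Subring B) (b : B) (hb : b ∉ A)
    (n : ℕ) (hn : 0 < n) (h1 : b ^ n ∈ A) (h2 : b ^ (n + 1) ∈ A) :
    ∃ b' : B, b' ∉ A ∧ b' ^ 2 ∈ A ∧ b' ^ 3 ∈ A := by
  classical
  have hbig : ∀ m, n * n ≤ m → b ^ m ∈ A := by
    intro m hm
    have hr : m % n ≤ m / n := (Nat.mod_lt m hn).le.trans ((Nat.le_div_iff_mul_le hn).mpr hm)
    obtain ⟨k, hk⟩ := Nat.exists_eq_add_of_le hr
    have e : m = k * n + (m % n) * (n + 1) :=
      calc m = n * (m / n) + m % n := (Nat.div_add_mod m n).symm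
        _ = _ := by rw [hk]; ring
    rw [e, pow_add, mul_comm k n, pow_mul, mul_comm (m % n) (n + 1), pow_mul]
    exact mul_mem (pow_mem h1 _) (pow_mem h2 _)
  let N := Nat.findGreatest (fun m => b ^ m ∉ A) (n * n)
  have h1' : (1 : ℕ) ≤ n * n := Nat.mul_pos hn hn
  have hN : b ^ N ∉ A :=
    Nat.findGreatest_spec (P := fun m => b ^ m ∉ A) h1' (show b ^ 1 ∉ A by rwa [pow_one])
  have hN1 : 1 ≤ N := Nat.le_findGreatest h1' (show b ^ 1 ∉ A by rwa [pow_one])
  have hgt : ∀ m, N < m → b ^ m ∈ A := fun m hm => by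
    by_contra hmA
    by_cases hmn : m ≤ n * n
    · exact Nat.findGreatest_is_greatest (P := fun m => b ^ m ∉ A) hm hmn hmA
    · exact hmA (hbig m (le_of_lt (not_le.mp hmn)))
  exact ⟨b ^ N, hN, by rw [← pow_mul]; exact hgt _ (by omega), by rw [← pow_mul]; exact hgt _ (by omega)⟩

/-- Morphisms out of `Spec` of a valuation domain that agree at the generic and at the closed point. -/
theorem eq_of_eq_generic_closed {Y : Scheme.{u}} (A : Type u) [CommRing A] [IsDomain A] [IsLocalRing A]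
    (K : Type u) [Field K] [Algebra A K] [IsFractionRing A K] (ξ η : Spec (CommRingCat.of A) ⟶ Y)
    (hK : Spec.map (CommRingCat.ofHom (algebraMap A K)) ≫ ξ = Spec.map (CommRingCat.ofHom (algebraMap A K)) ≫ η)
    (hk : Spec.map (CommRingCat.ofHom (IsLocalRing.residue A)) ≫ ξ =
      Spec.map (CommRingCat.ofHom (IsLocalRing.residue A)) ≫ η) :
    ξ = η := by
  let p : Spec (CommRingCat.of (IsLocalRing.ResidueField A)) := IsLocalRing.closedPoint _
  let c : Spec (CommRingCat.of A) := IsLocalRing.closedPoint A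
  have hp : Spec.map (CommRingCat.ofHom (IsLocalRing.residue A)) p = c :=
    IsLocalRing.comap_closedPoint (IsLocalRing.residue A)
  have hy : ξ c = η c := by
    have := congrArg (fun m : _ ⟶ Y => m p) hk
    simpa only [Scheme.Hom.comp_apply, hp] using this
  obtain ⟨U, hU, hyU, -⟩ := exists_isAffineOpen_mem_and_subset (Opens.mem_top (ξ c))
  have hall : ∀ (φ : Spec (CommRingCat.of A) ⟶ Y), φ c ∈ U → φ ⁻¹ᵁ U = ⊤ := fun φ hφ =>
    eq_top_iff.mpr fun x _ => (IsLocalRing.specializes_closedPoint x).mem_open (φ ⁻¹ᵁ U).2 hφ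
  have hξ : Set.range ξ ⊆ (U : Set Y) := by
    rintro _ ⟨x, rfl⟩; exact (hall ξ hyU).ge (Opens.mem_top x)
  have hη : Set.range η ⊆ (U : Set Y) := by
    rintro _ ⟨x, rfl⟩; exact (hall η (hy ▸ hyU)).ge (Opens.mem_top x)
  rw [← hU.range_fromSpec] at hξ hη
  have h1 := IsOpenImmersion.lift_fac hU.fromSpec ξ hξ
  have h2 := IsOpenImmersion.lift_fac hU.fromSpec η hη
  obtain ⟨a, ha⟩ := Spec.map_surjective (IsOpenImmersion.lift hU.fromSpec ξ hξ)
  obtain ⟨b, hb⟩ := Spec.map_surjective (IsOpenImmersion.lift hU.fromSpec η hη)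
  rw [← ha] at h1
  rw [← hb] at h2
  rw [← h1, ← h2] at hK ⊢
  rw [← Category.assoc, ← Category.assoc, cancel_mono, ← Spec.map_comp, ← Spec.map_comp] at hK
  have := Spec.map_injective hK
  congr 2
  refine CommRingCat.hom_ext (RingHom.ext fun x => IsFractionRing.injective A K ?_)
  exact congrArg (fun m : _ ⟶ CommRingCat.of K => m x) this

/-- Morphisms out of `Spec` of a domain that agree on a dense set of points agree on a nonempty open. -/
theorem exists_open_eq_of_dense {Y : Scheme.{u}} (A : Type u) [CommRing A] [IsDomain A]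
    (ξ η : Spec (CommRingCat.of A) ⟶ Y) (D : Set ↥(Spec (CommRingCat.of A))) (hD : Dense D)
    (hpt : ∀ p ∈ D, (Spec (CommRingCat.of A)).fromSpecResidueField p ≫ ξ =
      (Spec (CommRingCat.of A)).fromSpecResidueField p ≫ η) :
    ∃ U : (Spec (CommRingCat.of A)).Opens, (U : Set ↥(Spec (CommRingCat.of A))).Nonempty ∧ U.ι ≫ ξ = U.ι ≫ η := by
  obtain ⟨p, hp⟩ := hD.nonempty
  obtain ⟨U, hU, hyU, -⟩ := exists_isAffineOpen_mem_and_subset (Opens.mem_top (ξ p))
  have hy : η p = ξ p := by
    have := congrArg (fun m : _ ⟶ Y => m default) (hpt p hp)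
    simpa only [Scheme.Hom.comp_apply, Scheme.fromSpecResidueField_apply] using this.symm
  have hpW : p ∈ ξ ⁻¹ᵁ U ⊓ η ⁻¹ᵁ U := ⟨hyU, show η p ∈ U by rw [hy]; exact hyU⟩
  obtain ⟨_, ⟨g, rfl⟩, hpg, hgW⟩ :=
    PrimeSpectrum.isTopologicalBasis_basic_opens.exists_subset_of_mem_open hpW (ξ ⁻¹ᵁ U ⊓ η ⁻¹ᵁ U).2
  let V : (Spec (CommRingCat.of A)).Opens := PrimeSpectrum.basicOpen g
  haveI : IsAffine (V : Scheme.{u}) := by
    have h : IsAffineOpen V := by
      have h0 : V = (Spec (CommRingCat.of A)).basicOpen ((Scheme.ΓSpecIso (CommRingCat.of A)).inv g) :=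
        (basicOpen_eq_of_affine g).symm
      rw [h0]
      exact (isAffineOpen_top _).basicOpen _
    exact h
  haveI : IsReduced (Spec (CommRingCat.of A)) := inferInstance
  haveI : IsReduced (V : Scheme.{u}) := isReduced_of_isOpenImmersion V.ι
  refine ⟨V, ⟨p, hpg⟩, ?_⟩
  have hξ : Set.range (V.ι ≫ ξ) ⊆ (U : Set Y) := by
    rintro _ ⟨x, rfl⟩; exact (hgW x.2).1
  have hη : Set.range (V.ι ≫ η) ⊆ (U : Set Y) := by
    rintro _ ⟨x, rfl⟩; exact (hgW x.2).2
  rw [← U.range_ι] at hξ hη
  rw [← IsOpenImmersion.lift_fac U.ι _ hξ, ← IsOpenImmersion.lift_fac U.ι _ hη]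
  congr 1
  haveI : IsAffine (U : Scheme.{u}) := hU
  refine AlgebraicGeometry.ext_of_isAffine ?_
  refine CommRingCat.hom_ext (RingHom.ext fun b => ?_)
  rw [← sub_eq_zero]
  let d := (IsOpenImmersion.lift U.ι (V.ι ≫ ξ) hξ).appTop b - (IsOpenImmersion.lift U.ι (V.ι ≫ η) hη).appTop b
  change d = 0
  rw [← AlgebraicGeometry.basicOpen_eq_bot_iff]
  by_contra hne
  obtain ⟨x, hx⟩ : ((((V : Scheme.{u}).basicOpen d) : Set V)).Nonempty := (Opens.ne_bot_iff_nonempty _).mp hne
  have hop : IsOpen (V.ι '' (((V : Scheme.{u}).basicOpen d) : Set V)) :=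
    V.ι.isOpenEmbedding.isOpenMap _ ((V : Scheme.{u}).basicOpen d).2
  obtain ⟨_, ⟨q, hq, rfl⟩, hqD⟩ := hD.inter_open_nonempty _ hop ⟨_, x, hx, rfl⟩
  have hkey : (V : Scheme.{u}).fromSpecResidueField q ≫ IsOpenImmersion.lift U.ι (V.ι ≫ ξ) hξ =
      (V : Scheme.{u}).fromSpecResidueField q ≫ IsOpenImmersion.lift U.ι (V.ι ≫ η) hη := by
    rw [← cancel_mono U.ι]
    simp only [Category.assoc, IsOpenImmersion.lift_fac]
    rw [← reassoc_of% (Scheme.Hom.SpecMap_residueFieldMap_fromSpecResidueField V.ι q),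
      ← reassoc_of% (Scheme.Hom.SpecMap_residueFieldMap_fromSpecResidueField V.ι q), hpt _ hqD]
  have h3 : ((V : Scheme.{u}).fromSpecResidueField q).appTop d = 0 := by
    show ((V : Scheme.{u}).fromSpecResidueField q).appTop.hom (_ - _) = 0
    rw [map_sub, sub_eq_zero]
    exact congrArg (fun m : _ ⟶ (U : Scheme.{u}) => m.appTop b) hkey
  have h4 : default ∈ (V : Scheme.{u}).fromSpecResidueField q ⁻¹ᵁ (V : Scheme.{u}).basicOpen d := by
    show (V : Scheme.{u}).fromSpecResidueField q default ∈ (V : Scheme.{u}).basicOpen d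
    rw [Scheme.fromSpecResidueField_apply]
    exact hq
  rw [Scheme.preimage_basicOpen] at h4
  rw [show ((V : Scheme.{u}).fromSpecResidueField q).app ⊤ d = 0 from h3, Scheme.basicOpen_zero] at h4
  exact h4

/-- Separatedness descends along a surjective universally closed morphism. -/
theorem isSeparated_of_comp {X Y S : Scheme.{u}} (π : X ⟶ Y) (q : Y ⟶ S) [Surjective π] [UniversallyClosed π]
    [IsSeparated (π ≫ q)] : IsSeparated q := by
  have h : pullback.diagonal (π ≫ q) ≫ pullback.map (π ≫ q) (π ≫ q) q q π π (𝟙 S) (by simp) (by simp) =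
      π ≫ pullback.diagonal q := by
    apply pullback.hom_ext <;> simp [pullback.diagonal] <;> exact Category.id_comp π
  haveI : UniversallyClosed (pullback.map (π ≫ q) (π ≫ q) q q π π (𝟙 S) (by simp) (by simp)) :=
    MorphismProperty.pullbackMap (P := @UniversallyClosed) inferInstance inferInstance rfl rfl
  haveI : UniversallyClosed (π ≫ pullback.diagonal q) := by rw [← h]; infer_instance
  have hr : IsClosed (Set.range (pullback.diagonal q)) := by
    have e : Set.range (π ≫ pullback.diagonal q) = Set.range (pullback.diagonal q) := by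
      rw [Scheme.Hom.comp_base, TopCat.coe_comp, Set.range_comp, π.surjective.range_eq, Set.image_univ]
    rw [← e]
    exact (π ≫ pullback.diagonal q).isClosedMap.isClosed_range
  exact ⟨IsClosedImmersion.of_isPreimmersion _ hr⟩

end GrothLib.MorQ9
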